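import Mathlib
import Groth.Prelude.Def_KoszTw
import Groth.Agent.Lib.Lead.QC.BiprodSec
import Groth.Agent.Lib.Lead.QC.LocFree3
import Groth.Agent.Lib.Helper8.KoszSh.KoszMap

set_option autoImplicit false
open CategoryTheory AlgebraicGeometry Opposite TopologicalSpace exteriorPower
open Groth.Agent.LD.QC

namespace Groth.Agent.H8.KoszTwL

universe u
variable {X : Scheme.{u}}

/-! ## Sheaf-level lemmas: zero morphisms, kernels and images are local. -/

theorem hom_eq_zero_of_local {P B : X.Modules} (g : P ⟶ B)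
    (h : ∀ (x : X) (W : X.Opens), x ∈ W → ∃ V : X.Opens, x ∈ V ∧ V ≤ W ∧
      ∀ a : Γ(P, V), g.app V a = 0) : g = 0 := by
  apply Scheme.Modules.hom_ext
  intro U
  ext z
  choose V hxV hVU hV using fun x : U => h x.1 U x.2
  apply section_ext_of_cover B V hVU
  · intro x hx
    exact Opens.mem_iSup.2 ⟨⟨x, hx⟩, hxV ⟨x, hx⟩⟩
  · intro x
    rw [← Groth.Agent.LD.QC.app_res, ← Groth.Agent.LD.QC.app_res, hV x]
    exact (zero_app' _ _).symm

theorem kernelSubobject_le_of_local {P A B : X.Modules} (f₁ : P ⟶ A) (f₂ : P ⟶ B)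
    (h : ∀ (x : X) (W : X.Opens), x ∈ W → ∃ V : X.Opens, x ∈ V ∧ V ≤ W ∧
      ∀ a : Γ(P, V), f₁.app V a = 0 → f₂.app V a = 0) :
    Limits.kernelSubobject f₁ ≤ Limits.kernelSubobject f₂ := by
  apply Limits.le_kernelSubobject
  apply hom_eq_zero_of_local
  intro x W hx
  obtain ⟨V, hxV, hVW, hV⟩ := h x W hx
  refine ⟨V, hxV, hVW, fun a => ?_⟩
  rw [comp_app']
  apply hV
  rw [← comp_app', Limits.kernelSubobject_arrow_comp]
  exact zero_app' _ _

theorem imageSubobject_le_of_local {A B T : X.Modules} (f : A ⟶ T) (g : B ⟶ T)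
    (h : ∀ (x : X) (W : X.Opens), x ∈ W → ∃ V : X.Opens, x ∈ V ∧ V ≤ W ∧
      ∀ a : Γ(A, V), ∃ b : Γ(B, V), g.app V b = f.app V a) :
    Limits.imageSubobject f ≤ Limits.imageSubobject g := by
  have h0 : f ≫ Limits.cokernel.π g = 0 := by
    apply hom_eq_zero_of_local
    intro x W hx
    obtain ⟨V, hxV, hVW, hV⟩ := h x W hx
    refine ⟨V, hxV, hVW, fun a => ?_⟩
    obtain ⟨b, hb⟩ := hV a
    rw [comp_app', ← hb, ← comp_app', Limits.cokernel.condition]
    exact zero_app' _ _
  let k : A ⟶ Abelian.image g := Limits.kernel.lift _ f h0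
  have hk : k ≫ Abelian.image.ι g = f := Limits.kernel.lift_ι _ _ _
  refine Limits.imageSubobject_le f
    (k ≫ (Abelian.imageIsoImage g).hom ≫ (Limits.imageSubobjectIso g).inv) ?_
  rw [Category.assoc, Category.assoc, Limits.imageSubobject_arrow',
    Abelian.imageIsoImage_hom_comp_image_ι]
  exact hk

/-! ## Ring-level lemmas on exterior powers. -/

theorem extPow_eq_zero_of_smul {R M : Type*} [CommRing R] [AddCommGroup M] [Module R M]
    [Module.Projective R M] (q : ℕ) {c : R} (hc : c ∈ nonZeroDivisors R) (v : ↥(⋀[R]^q M))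
    (h : c • v = 0) : v = 0 := by
  obtain ⟨s, hs⟩ := Module.projective_def'.mp (inferInstance : Module.Projective R M)
  have hinj : Function.Injective (exteriorPower.map q s) :=
    exteriorPower.map_injective (Finsupp.linearCombination R id) hs
  apply hinj
  rw [map_zero]
  have hreg : Function.Injective (fun m : ↥(⋀[R]^q (M →₀ R)) => c • m) :=
    Module.Flat.isSMulRegular_of_nonZeroDivisors (M := ↥(⋀[R]^q (M →₀ R))) hc
  apply hreg
  show c • _ = c • 0
  rw [smul_zero, ← map_smul, h, map_zero]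

theorem extPow_map_bijective {R M N : Type*} [CommRing R] [AddCommGroup M] [Module R M]
    [AddCommGroup N] [Module R N] (n : ℕ) (f : M →ₗ[R] N) (hf : Function.Bijective f) :
    Function.Bijective (exteriorPower.map n f) := by
  refine ⟨?_, exteriorPower.map_surjective hf.2⟩
  refine exteriorPower.map_injective (n := n) (LinearEquiv.ofBijective f hf).symm.toLinearMap ?_
  ext m
  exact (LinearEquiv.ofBijective f hf).symm_apply_apply m

theorem map_dGen_smul {R : Type*} [CommRing R] {M N : Type*} [AddCommGroup M] [Module R M]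
    [AddCommGroup N] [Module R N] (g : M →ₗ[R] N) (φ : M →ₗ[R] R) (ψ : N →ₗ[R] R) (c : R)
    (hg : ∀ m, φ m = c * ψ (g m)) (p : ℕ) (e : Fin (p + 1) → M) :
    exteriorPower.map p g (KoszSh.dGen φ p e) = c • KoszSh.dGen ψ p (⇑g ∘ e) := by
  unfold KoszSh.dGen
  rw [map_sum, Finset.smul_sum]
  refine Finset.sum_congr rfl (fun i _ => ?_)
  rw [map_smul, exteriorPower.map_apply_ιMulti, hg, smul_smul]
  have h1 : (-1 : R) ^ (i : ℕ) * (c * ψ (g (e i))) = c * ((-1) ^ (i : ℕ) * ψ ((⇑g ∘ e) i)) := by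
    simp only [Function.comp_apply]
    ring
  rw [h1]
  rfl

/-! ## Tensoring with a local section. -/

/-- `m ↦ m ⊗ y` as a linear map. -/
noncomputable def tmulR (M N : X.Modules) (U : X.Opens) (y : Γ(N, U)) :
    Γ(M, U) →ₗ[Γ(X, U)] Γ(CohB1.tensorMod M N, U) where
  toFun m := SecTwist.tmul M N U m y
  map_add' m m' := tmul_add_left M N U m m' y
  map_smul' r m := tmul_smul_left M N U r m y

theorem tmulR_apply (M N : X.Modules) (U : X.Opens) (y : Γ(N, U)) (m : Γ(M, U)) :
    tmulR M N U y m = SecTwist.tmul M N U m y := rfl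

theorem tmulR_bijective (M : X.Modules) {N : X.Modules} {U : X.Opens} {y : Γ(N, U)}
    (hy : IsBasisOver N U y) : Function.Bijective (tmulR M N U y) := by
  have h := bijective_tmul_of_isBasisOver M N hy U le_rfl
  have hres : N.presheaf.map (homOfLE (le_refl U)).op y = y := res_self N _ y
  constructor
  · intro a b hab
    apply h.1
    simp only
    rw [hres]
    exact hab
  · intro z
    obtain ⟨a, ha⟩ := h.2 z
    refine ⟨a, ?_⟩
    simp only at ha
    rw [hres] at ha
    exact ha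

theorem tprod_const' (L : X.Modules) (n : ℕ) (U : X.Opens) (e : Γ(L, U)) :
    KoszTw.tprod L n U (fun _ => e) = secPow e n := by
  induction n with
  | zero => rfl
  | succ n ih =>
    change SecTwist.tmul _ _ U (KoszTw.tprod L n U (fun _ => e)) e =
      SecTwist.tmul _ _ U (secPow e n) e
    rw [ih]

theorem exists_affine_basis {L : X.Modules} (hL : PicF.IsInvertible L) (x : X) (W : X.Opens)
    (hx : x ∈ W) :
    ∃ (U : X.affineOpens) (e : Γ(L, U.1)), x ∈ U.1 ∧ U.1 ≤ W ∧ IsBasisOver L U.1 e := by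
  obtain ⟨U', e', hxU', he'⟩ := (isInvertible_iff_exists_isBasisOver L).mp hL x
  obtain ⟨U, hU, hxU, hUle⟩ :=
    exists_isAffineOpen_mem_and_subset (x := x) (U := U' ⊓ W) ⟨hxU', hx⟩
  have h1 : U ≤ U' := fun y hy => (hUle hy).1
  have h2 : U ≤ W := fun y hy => (hUle hy).2
  exact ⟨⟨U, hU⟩, L.presheaf.map (homOfLE h1).op e', hxU, h2, he'.mono h1⟩

/-! ## The linear Koszul differential on an affine open. -/

section Diff
variable {E : X.Modules} {s : E ⟶ Coh.structureModule X}

noncomputable def dLin (C : KoszSh.Cx E s) (q : ℕ) (U : X.affineOpens) :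
    ↥(⋀[Γ(X, U.1)]^(q + 1) Γ(E, U.1)) →ₗ[Γ(X, U.1)] ↥(⋀[Γ(X, U.1)]^q Γ(E, U.1)) :=
  ((C.loc q U).toLinearMap.comp (KoszMap.appLin (C.K.d (q + 1) q) U.1)).comp
    (C.loc (q + 1) U).symm.toLinearMap

theorem dLin_apply (C : KoszSh.Cx E s) (q : ℕ) (U : X.affineOpens)
    (w : ↥(⋀[Γ(X, U.1)]^(q + 1) Γ(E, U.1))) :
    dLin C q U w = C.loc q U ((C.K.d (q + 1) q).app U.1 ((C.loc (q + 1) U).symm w)) := rfl

theorem dLin_ιMulti (C : KoszSh.Cx E s) (q : ℕ) (U : X.affineOpens)
    (f : Fin (q + 1) → Γ(E, U.1)) :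
    dLin C q U (ιMulti _ (q + 1) f) = KoszSh.dGen (KoszSh.secForm s U.1) q f := by
  rw [dLin_apply, C.rule, LinearEquiv.apply_symm_apply]

theorem d_app_symm (C : KoszSh.Cx E s) (q : ℕ) (U : X.affineOpens)
    (w : ↥(⋀[Γ(X, U.1)]^(q + 1) Γ(E, U.1))) :
    (C.K.d (q + 1) q).app U.1 ((C.loc (q + 1) U).symm w) = (C.loc q U).symm (dLin C q U w) := by
  rw [dLin_apply, LinearEquiv.symm_apply_apply]

end Diff

/-! ## The twisted comparison. -/

section Twist
variable {F L : X.Modules} {s : F ⟶ Coh.structureModule X}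
  {t : CohB1.tensorMod F L ⟶ Coh.structureModule X}

theorem map_dLin (C : KoszSh.Cx F s) (D : KoszSh.Cx (CohB1.tensorMod F L) t) (q : ℕ)
    (U : X.affineOpens) (e : Γ(L, U.1)) (c : Γ(X, U.1))
    (hc : ∀ f : Γ(F, U.1), KoszSh.secForm s U.1 f =
      c * KoszSh.secForm t U.1 (SecTwist.tmul F L U.1 f e))
    (w : ↥(⋀[Γ(X, U.1)]^(q + 1) Γ(F, U.1))) :
    exteriorPower.map q (tmulR F L U.1 e) (dLin C q U w) =
      c • dLin D q U (exteriorPower.map (q + 1) (tmulR F L U.1 e) w) := by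
  have key : (exteriorPower.map q (tmulR F L U.1 e)).comp (dLin C q U) =
      c • ((dLin D q U).comp (exteriorPower.map (q + 1) (tmulR F L U.1 e))) := by
    apply exteriorPower.linearMap_ext
    ext f
    simp only [LinearMap.compAlternatingMap_apply, LinearMap.comp_apply, LinearMap.smul_apply]
    rw [dLin_ιMulti, exteriorPower.map_apply_ιMulti, dLin_ιMulti]
    exact congrArg Subtype.val
      (map_dGen_smul (tmulR F L U.1 e) (KoszSh.secForm s U.1) (KoszSh.secForm t U.1) c hc q f)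
  exact LinearMap.congr_fun key w

theorem decData_apply {P Q : X.Modules} {n : ℕ}
    {locP : ∀ U : X.affineOpens,
      Γ(P, U.1) ≃ₗ[Γ(X, U.1)] ↥(⋀[Γ(X, U.1)]^n Γ(CohB1.tensorMod F L, U.1))}
    {locQ : ∀ U : X.affineOpens, Γ(Q, U.1) ≃ₗ[Γ(X, U.1)] ↥(⋀[Γ(X, U.1)]^n Γ(F, U.1))}
    (θ : KoszTw.DecData F L n P Q locP locQ) (U : X.affineOpens) (e : Γ(L, U.1))
    (w : ↥(⋀[Γ(X, U.1)]^n Γ(F, U.1))) :
    θ.iso.hom.app U.1 ((locP U).symm (exteriorPower.map n (tmulR F L U.1 e) w)) =
      SecTwist.tmul Q (CohB1.tensorPow L n) U.1 ((locQ U).symm w) (secPow e n) := by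
  have key : ((KoszMap.appLin θ.iso.hom U.1).comp (locP U).symm.toLinearMap).comp
      (exteriorPower.map n (tmulR F L U.1 e)) =
      (tmulR Q (CohB1.tensorPow L n) U.1 (secPow e n)).comp (locQ U).symm.toLinearMap := by
    apply exteriorPower.linearMap_ext
    ext f
    simp only [LinearMap.compAlternatingMap_apply, LinearMap.comp_apply]
    rw [exteriorPower.map_apply_ιMulti]
    have h := θ.rule U f (fun _ => e)
    rw [tprod_const'] at h
    exact h
  exact LinearMap.congr_fun key w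

theorem exists_c (lam : Coh.structureModule X ⟶ L) (htri : KoszTw.TwistTriangle s lam t)
    (U : X.Opens) (e : Γ(L, U)) (he : IsBasisOver L U e) :
    ∃ c : Γ(X, U), lam.app U (1 : Γ(X, U)) = c • e ∧
      (∀ f : Γ(F, U), KoszSh.secForm s U f =
        c * KoszSh.secForm t U (SecTwist.tmul F L U f e)) ∧
      (∀ r : Γ(X, U), lam.app U r = (r * c) • e) := by
  have hb := he U le_rfl
  have hres : L.presheaf.map (homOfLE (le_refl U)).op e = e := res_self L _ e
  obtain ⟨c, hc⟩ := hb.2 (lam.app U (1 : Γ(X, U)))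
  simp only at hc
  rw [hres] at hc
  have hlin : ∀ r : Γ(X, U), lam.app U r = (r * c) • e := by
    intro r
    have h1 : lam.app U r = r • lam.app U (1 : Γ(X, U)) :=
      (congrArg (fun z : Γ(unitMod X, U) => lam.app U z) (mul_one r).symm).trans
        (Scheme.Modules.Hom.app_smul lam r (1 : Γ(X, U)))
    rw [h1, ← hc, smul_smul]
  refine ⟨c, hc.symm, ?_, hlin⟩
  intro f
  have h2 := htri U f e
  have h3 := hlin (KoszSh.secForm t U (SecTwist.tmul F L U f e))
  have h4 : (KoszSh.secForm t U (SecTwist.tmul F L U f e) * c) • e =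
      KoszSh.secForm s U f • e := h3.symm.trans h2
  have h5 : KoszSh.secForm t U (SecTwist.tmul F L U f e) * c = KoszSh.secForm s U f := by
    apply hb.1
    simp only
    rw [hres]
    exact h4
  rw [← h5, mul_comm]

end Twist

end Groth.Agent.H8.KoszTwL
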