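import Mathlib
import Groth.Prelude.Def_ExtPow2
import Groth.Agent.Lib.Helper8.KoszTw.TwLocal
import Groth.Agent.Lib.Helper2.ModGlue
import Groth.Agent.Lib.Lead.QC.FiniteFree

set_option autoImplicit false
open CategoryTheory AlgebraicGeometry Opposite TopologicalSpace exteriorPower
open Groth.Agent.LD.QC

namespace Groth.Agent.H8.KoszTwL

universe u
variable {X : Scheme.{u}}

section ExtTwist
variable {E L M N : X.Modules} {k : ℕ}
  (locM : ∀ U : X.affineOpens,
    Γ(M, U.1) ≃ₗ[Γ(X, U.1)] ↥(⋀[Γ(X, U.1)]^k Γ(CohB1.tensorMod E L, U.1)))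
  (locN : ∀ U : X.affineOpens, Γ(N, U.1) ≃ₗ[Γ(X, U.1)] ↥(⋀[Γ(X, U.1)]^k Γ(E, U.1)))

/-- the inverse of `Λ^k (e ↦ e ⊗ l)` for a basis `l` of `L`. -/
noncomputable def PhiInv (U : X.affineOpens) (e : Γ(L, U.1)) (he : IsBasisOver L U.1 e) :
    ↥(⋀[Γ(X, U.1)]^k Γ(CohB1.tensorMod E L, U.1)) →ₗ[Γ(X, U.1)] ↥(⋀[Γ(X, U.1)]^k Γ(E, U.1)) :=
  (LinearEquiv.ofBijective _
    (extPow_map_bijective k (tmulR E L U.1 e) (tmulR_bijective E he))).symm.toLinearMap

theorem PhiInv_apply (U : X.affineOpens) (e : Γ(L, U.1)) (he : IsBasisOver L U.1 e)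
    (w : ↥(⋀[Γ(X, U.1)]^k Γ(E, U.1))) :
    PhiInv (E := E) (k := k) U e he (exteriorPower.map k (tmulR E L U.1 e) w) = w :=
  (LinearEquiv.ofBijective _
    (extPow_map_bijective k (tmulR E L U.1 e) (tmulR_bijective E he))).symm_apply_apply w

theorem PhiInv_bijective (U : X.affineOpens) (e : Γ(L, U.1)) (he : IsBasisOver L U.1 e) :
    Function.Bijective (PhiInv (E := E) (k := k) U e he) :=
  (LinearEquiv.ofBijective _
    (extPow_map_bijective k (tmulR E L U.1 e) (tmulR_bijective E he))).symm.bijective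

/-- the local comparison map `Λ^k(E ⊗ L) → Λ^k E ⊗ L^{⊗k}` attached to a basis of `L`. -/
noncomputable def psi (U : X.affineOpens) (e : Γ(L, U.1)) (he : IsBasisOver L U.1 e) :
    Γ(M, U.1) →ₗ[Γ(X, U.1)] Γ(CohB1.tensorMod N (CohB1.tensorPow L k), U.1) :=
  ((tmulR N (CohB1.tensorPow L k) U.1 (secPow e k)).comp (locN U).symm.toLinearMap).comp
    ((PhiInv (E := E) (k := k) U e he).comp (locM U).toLinearMap)

theorem psi_symm (U : X.affineOpens) (e : Γ(L, U.1)) (he : IsBasisOver L U.1 e)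
    (w : ↥(⋀[Γ(X, U.1)]^k Γ(E, U.1))) :
    psi locM locN U e he ((locM U).symm (exteriorPower.map k (tmulR E L U.1 e) w)) =
      SecTwist.tmul N (CohB1.tensorPow L k) U.1 ((locN U).symm w) (secPow e k) := by
  show SecTwist.tmul N (CohB1.tensorPow L k) U.1 ((locN U).symm (PhiInv (E := E) (k := k) U e he
    (locM U ((locM U).symm (exteriorPower.map k (tmulR E L U.1 e) w))))) (secPow e k) = _
  rw [LinearEquiv.apply_symm_apply, PhiInv_apply]

theorem psi_bijective (U : X.affineOpens) (e : Γ(L, U.1)) (he : IsBasisOver L U.1 e) :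
    Function.Bijective (psi locM locN U e he) := by
  have h1 : Function.Bijective (locM U) := (locM U).bijective
  have h2 := PhiInv_bijective (E := E) (k := k) U e he
  have h3 : Function.Bijective (locN U).symm := (locN U).symm.bijective
  have h4 := tmulR_bijective N (he.secPow k)
  exact h4.comp (h3.comp (h2.comp h1))

theorem exists_eq_symm_map (U : X.affineOpens) (e : Γ(L, U.1)) (he : IsBasisOver L U.1 e)
    (a : Γ(M, U.1)) :
    ∃ w : ↥(⋀[Γ(X, U.1)]^k Γ(E, U.1)),
      a = (locM U).symm (exteriorPower.map k (tmulR E L U.1 e) w) := by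
  obtain ⟨w, hw⟩ := (extPow_map_bijective k (tmulR E L U.1 e) (tmulR_bijective E he)).2 (locM U a)
  exact ⟨w, by rw [hw, LinearEquiv.symm_apply_apply]⟩

variable (locM_res : ∀ (U V : X.affineOpens) (h : V.1 ≤ U.1)
    (f : Fin k → Γ(CohB1.tensorMod E L, U.1)),
    M.presheaf.map (homOfLE h).op ((locM U).symm (ιMulti _ k f)) =
      (locM V).symm (ιMulti _ k (fun j => (CohB1.tensorMod E L).presheaf.map (homOfLE h).op (f j))))
  (locN_res : ∀ (U V : X.affineOpens) (h : V.1 ≤ U.1) (f : Fin k → Γ(E, U.1)),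
    N.presheaf.map (homOfLE h).op ((locN U).symm (ιMulti _ k f)) =
      (locN V).symm (ιMulti _ k (fun j => E.presheaf.map (homOfLE h).op (f j))))

include locM_res locN_res in
theorem psi_nat (U V : X.affineOpens) (h : V.1 ≤ U.1) (eU : Γ(L, U.1))
    (heU : IsBasisOver L U.1 eU) (eV : Γ(L, V.1)) (heV : IsBasisOver L V.1 eV) (a : Γ(M, U.1)) :
    (CohB1.tensorMod N (CohB1.tensorPow L k)).presheaf.map (homOfLE h).op
        (psi locM locN U eU heU a) =
      psi locM locN V eV heV (M.presheaf.map (homOfLE h).op a) := by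
  obtain ⟨w, rfl⟩ := exists_eq_symm_map locM U eU heU a
  obtain ⟨c, hc⟩ : ∃ c : Γ(X, V.1), L.presheaf.map (homOfLE h).op eU = c • eV := by
    obtain ⟨c, hc⟩ := (heV V.1 le_rfl).2 (L.presheaf.map (homOfLE h).op eU)
    simp only at hc
    rw [res_self] at hc
    exact ⟨c, hc.symm⟩
  rw [psi_symm]
  refine KoszMap.extPow_semilinear_ext (X.presheaf.map (homOfLE h).op).hom k
    (fun w => (CohB1.tensorMod N (CohB1.tensorPow L k)).presheaf.map (homOfLE h).op
      (SecTwist.tmul N (CohB1.tensorPow L k) U.1 ((locN U).symm w) (secPow eU k)))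
    (fun w => psi locM locN V eV heV (M.presheaf.map (homOfLE h).op
      ((locM U).symm (exteriorPower.map k (tmulR E L U.1 eU) w))))
    (fun x y => ?_) (fun x y => ?_) (fun r x => ?_) (fun r x => ?_) (fun f => ?_) w
  · simp only [map_add]
    rw [tmul_add_left]
    exact map_add _ _ _
  · simp only [map_add]
  · simp only [map_smul]
    rw [tmul_smul_left]
    exact Scheme.Modules.map_smul (CohB1.tensorMod N (CohB1.tensorPow L k)) (homOfLE h) r _
  · simp only [map_smul]
    rw [Scheme.Modules.map_smul M (homOfLE h) r _, map_smul]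
  · show (CohB1.tensorMod N (CohB1.tensorPow L k)).presheaf.map (homOfLE h).op
      (SecTwist.tmul N (CohB1.tensorPow L k) U.1 ((locN U).symm (ιMulti _ k f)) (secPow eU k)) =
      psi locM locN V eV heV (M.presheaf.map (homOfLE h).op
        ((locM U).symm (exteriorPower.map k (tmulR E L U.1 eU) (ιMulti _ k f))))
    rw [tmul_res, locN_res U V h f, secPow_res, hc, secPow_smul, tmul_smul_right,
      exteriorPower.map_apply_ιMulti, locM_res U V h]
    have h1 : (fun j => (CohB1.tensorMod E L).presheaf.map (homOfLE h).op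
        ((⇑(tmulR E L U.1 eU) ∘ f) j)) =
        fun j => (fun _ : Fin k => c) j • (⇑(tmulR E L V.1 eV) ∘
          (fun j => E.presheaf.map (homOfLE h).op (f j))) j := by
      funext j
      simp only [Function.comp_apply, tmulR_apply]
      rw [tmul_res, hc, tmul_smul_right]
      rfl
    rw [h1, AlternatingMap.map_smul_univ, Finset.prod_const, Finset.card_univ, Fintype.card_fin,
      ← exteriorPower.map_apply_ιMulti, map_smul, map_smul, psi_symm]
    rfl

end ExtTwist

/-- affine opens over which `L` has a basis. -/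
def Idx (L : X.Modules) : Type u := { U : X.affineOpens // ∃ e : Γ(L, U.1), IsBasisOver L U.1 e }

def Bop (L : X.Modules) : Idx L → X.Opens := fun i => i.1.1

theorem isBasis_Bop {L : X.Modules} (hL : PicF.IsInvertible L) :
    Opens.IsBasis (Set.range (Bop L)) := by
  rw [Opens.isBasis_iff_nbhd]
  intro W x hx
  obtain ⟨U, e, hxU, hUW, he⟩ := exists_affine_basis hL x W hx
  exact ⟨U.1, ⟨⟨U, e, he⟩, rfl⟩, hxU, hUW⟩

theorem nonempty_iso_extPow_twist (E L : X.Modules) (hL : FlatMod.IsFinLocFreeOfRank 1 L) (k : ℕ)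
    (M N : X.Modules) (hM : ExtPow.IsExtPow k (CohB1.tensorMod E L) M)
    (hN : ExtPow.IsExtPow k E N) :
    Nonempty (M ≅ CohB1.tensorMod N (CohB1.tensorPow L k)) := by
  have hL' : PicF.IsInvertible L := (isInvertible_iff L).mpr hL
  obtain ⟨φM, hφM⟩ := hM
  obtain ⟨φN, hφN⟩ := hN
  let locM : ∀ U : X.affineOpens,
    Γ(M, U.1) ≃ₗ[Γ(X, U.1)] ↥(⋀[Γ(X, U.1)]^k Γ(CohB1.tensorMod E L, U.1)) := φM
  let locN : ∀ U : X.affineOpens, Γ(N, U.1) ≃ₗ[Γ(X, U.1)] ↥(⋀[Γ(X, U.1)]^k Γ(E, U.1)) := φN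
  have locM_res : ∀ (U V : X.affineOpens) (h : V.1 ≤ U.1)
      (f : Fin k → Γ(CohB1.tensorMod E L, U.1)),
      M.presheaf.map (homOfLE h).op ((locM U).symm (ιMulti _ k f)) =
        (locM V).symm (ιMulti _ k
          (fun j => (CohB1.tensorMod E L).presheaf.map (homOfLE h).op (f j))) :=
    fun U V h f => hφM U V h f
  have locN_res : ∀ (U V : X.affineOpens) (h : V.1 ≤ U.1) (f : Fin k → Γ(E, U.1)),
      N.presheaf.map (homOfLE h).op ((locN U).symm (ιMulti _ k f)) =
        (locN V).symm (ιMulti _ k (fun j => E.presheaf.map (homOfLE h).op (f j))) :=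
    fun U V h f => hφN U V h f
  let ψ : M ⟶ CohB1.tensorMod N (CohB1.tensorPow L k) :=
    Groth.Agent.H2.ModGlue.homOfBasis (Bop L) (isBasis_Bop hL') M _
      (fun i => psi locM locN i.1 (Classical.choose i.2) (Classical.choose_spec i.2))
      (fun i j h a => psi_nat locM locN locM_res locN_res i.1 j.1 h _ _ _ _ a)
  haveI : IsIso ψ := by
    apply Groth.Agent.H2.ModGlue.isIso_of_bijective_basis (Bop L) (isBasis_Bop hL')
    intro i
    have h1 : ⇑(ConcreteCategory.hom (ψ.app (Bop L i))) =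
        ⇑(psi locM locN i.1 (Classical.choose i.2) (Classical.choose_spec i.2)) := by
      funext a
      exact Groth.Agent.H2.ModGlue.homOfBasis_app (Bop L) (isBasis_Bop hL') M _ _ _ i a
    rw [h1]
    exact psi_bijective locM locN i.1 _ _
  exact ⟨asIso ψ⟩

end Groth.Agent.H8.KoszTwL
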