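import Mathlib
import Groth.Agent.Lib.Helper2.QuasiReg

set_option autoImplicit false
open TensorProduct

namespace Groth.Agent.H8.RegSecPull

universe u

/-- if `A → B` is surjective with kernel `I` and `1 ⊗ x = 0` in `B ⊗_A I`, then `x ∈ I²`. -/
theorem mem_sq_of_one_tmul_eq_zero {A B : Type u} [CommRing A] [CommRing B] [Algebra A B]
    (hsurj : Function.Surjective (algebraMap A B)) (I : Ideal A)
    (hker : I = RingHom.ker (Algebra.ofId A B)) (x : I)
    (h : (1 : B) ⊗ₜ[A] x = 0) : (x : A) ∈ I ^ 2 := by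
  subst hker
  have hs : Function.Surjective (Algebra.ofId A B) := hsurj
  let ψ := Ideal.quotientKerAlgEquivOfSurjective hs
  let e1 : B ⊗[A] ↥(RingHom.ker (Algebra.ofId A B)) ≃ₗ[A]
      (A ⧸ RingHom.ker (Algebra.ofId A B)) ⊗[A] ↥(RingHom.ker (Algebra.ofId A B)) :=
    TensorProduct.congr ψ.symm.toLinearEquiv (LinearEquiv.refl A _)
  let e2 := TensorProduct.quotTensorEquivQuotSMul (↥(RingHom.ker (Algebra.ofId A B)))
    (RingHom.ker (Algebra.ofId A B))
  have h1 : e1 ((1 : B) ⊗ₜ[A] x) =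
      (Ideal.Quotient.mk (RingHom.ker (Algebra.ofId A B)) 1) ⊗ₜ[A] x := by
    show (ψ.symm 1) ⊗ₜ[A] x = _
    rw [map_one, map_one]
  have h2 : e2 (e1 ((1 : B) ⊗ₜ[A] x)) = Submodule.Quotient.mk x := by
    rw [h1, TensorProduct.quotTensorEquivQuotSMul_mk_tmul, one_smul]
  rw [h, map_zero, map_zero] at h2
  exact (Ideal.toCotangent_eq_zero _ x).mp h2.symm

theorem nonempty_equiv_tensor_ideal {A B : Type u} [CommRing A] [CommRing B] [Algebra A B]
    (hsurj : Function.Surjective (algebraMap A B)) {n : ℕ} (a : Fin n → A)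
    (ha : RingTheory.Sequence.IsWeaklyRegular A (List.ofFn a))
    (I : Ideal A) (hI : I = Ideal.span (Set.range a))
    (hker : I = RingHom.ker (Algebra.ofId A B)) :
    Nonempty ((Fin n → B) ≃ₗ[B] B ⊗[A] I) := by
  have hamem : ∀ k, a k ∈ I := by
    intro k; rw [hI]; exact Ideal.subset_span ⟨k, rfl⟩
  let a' : Fin n → I := fun k => ⟨a k, hamem k⟩
  let g : (Fin n → B) →ₗ[B] B ⊗[A] I :=
    Fintype.linearCombination B (fun k => (1 : B) ⊗ₜ[A] a' k)
  have hg : ∀ β : Fin n → B, g β = ∑ k, (β k) ⊗ₜ[A] a' k := by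
    intro β
    show ∑ k, β k • ((1 : B) ⊗ₜ[A] a' k) = _
    refine Finset.sum_congr rfl (fun k _ => ?_)
    rw [TensorProduct.smul_tmul', smul_eq_mul, mul_one]
  have hsur : Function.Surjective g := by
    intro z
    induction z using TensorProduct.induction_on with
    | zero => exact ⟨0, map_zero _⟩
    | tmul b x =>
      have hx : (x : A) ∈ Ideal.span (Set.range a) := by rw [← hI]; exact x.2
      obtain ⟨c, hc⟩ := Ideal.mem_span_range_iff_exists_fun.mp hx
      refine ⟨fun k => b * algebraMap A B (c k), ?_⟩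
      rw [hg]
      have hx' : x = ∑ k, c k • a' k := by
        apply Subtype.ext
        rw [← hc]
        simp [a']
      rw [hx', TensorProduct.tmul_sum]
      refine Finset.sum_congr rfl (fun k _ => ?_)
      rw [← TensorProduct.smul_tmul, Algebra.smul_def, mul_comm]
    | add z₁ z₂ h₁ h₂ =>
      obtain ⟨β₁, h₁⟩ := h₁
      obtain ⟨β₂, h₂⟩ := h₂
      exact ⟨β₁ + β₂, by rw [map_add, h₁, h₂]⟩
  have hinj : Function.Injective g := by
    rw [injective_iff_map_eq_zero]
    intro β hβ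
    choose c hc using fun k => hsurj (β k)
    have h1 : g β = (1 : B) ⊗ₜ[A] (∑ k, c k • a' k) := by
      rw [hg, TensorProduct.tmul_sum]
      refine Finset.sum_congr rfl (fun k _ => ?_)
      rw [← TensorProduct.smul_tmul, Algebra.smul_def, mul_one, hc]
    rw [h1] at hβ
    have h2 := mem_sq_of_one_tmul_eq_zero hsurj I hker _ hβ
    have h3 : ((∑ k, c k • a' k : I) : A) = ∑ k, c k * a k := by
      simp [a']
    rw [h3, hI] at h2
    funext k
    have h4 := Groth.Agent.H2.QuasiReg.coeff_mem_of_sum_mem_sq a ha c h2 k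
    rw [← hI, hker, RingHom.mem_ker] at h4
    rw [← hc k]
    exact h4
  exact ⟨LinearEquiv.ofBijective g ⟨hinj, hsur⟩⟩

theorem injective_of_surjective_of_equivs {B M₁ M₂ : Type*} [CommRing B] [AddCommGroup M₁]
    [Module B M₁] [AddCommGroup M₂] [Module B M₂] (f : M₁ →ₗ[B] M₂)
    (hf : Function.Surjective f) (n : ℕ) (e₁ : M₁ ≃ₗ[B] (Fin n → B))
    (e₂ : M₂ ≃ₗ[B] (Fin n → B)) : Function.Injective f := by
  let g : (Fin n → B) →ₗ[B] (Fin n → B) :=
    (e₂.toLinearMap.comp f).comp e₁.symm.toLinearMap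
  have hg : Function.Surjective g := e₂.surjective.comp (hf.comp e₁.symm.surjective)
  have hinj := OrzechProperty.injective_of_surjective_endomorphism g hg
  intro x y hxy
  have : g (e₁ x) = g (e₁ y) := by
    show e₂ (f (e₁.symm (e₁ x))) = e₂ (f (e₁.symm (e₁ y)))
    rw [e₁.symm_apply_apply, e₁.symm_apply_apply, hxy]
  exact e₁.injective (hinj this)

end Groth.Agent.H8.RegSecPull
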