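import Mathlib
import Groth.Prelude.Def_ClSub2
import Groth.Prelude.Def_FlatMod2
import Groth.Agent.Lib.Lead.QC.Pullback
import Groth.Agent.Lib.Lead.QC.IdealMod
import Groth.Agent.Lib.Lead.QC.Iso
import Groth.Agent.Lib.Lead.QC.BiprodSec
import Groth.Agent.Lib.Helper8.KoszTw.RegSecAlg
import Groth.Agent.Lib.Helper8.KoszSh.KoszMap

set_option autoImplicit false
open CategoryTheory CategoryTheory.Limits AlgebraicGeometry Opposite TopologicalSpace TensorProduct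
open Groth.Agent.LD.QC

namespace Groth.Agent.H8.RegSecPull

universe u
variable {X Y : Scheme.{u}}

set_option maxHeartbeats 800000 in
theorem injective_app_of_good (n : ℕ) (E : X.Modules) [E.IsQuasicoherent]
    (s : E ⟶ Coh.structureModule X) (i : Y ⟶ X) [IsClosedImmersion i]
    (t : E ⟶ ClSub.idealMod i.ker) [Epi t] (hts : t ≫ ClSub.idealModι i.ker = s)
    (U : X.affineOpens) (b : Module.Basis (Fin n) Γ(X, U.1) (E.val.obj (op U.1)))
    (hb : @RingTheory.Sequence.IsWeaklyRegular Γ(X, U.1) Γ(X, U.1) _ _ _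
      (List.ofFn fun k => (s.val.app (op U.1)).hom (b k))) :
    Function.Injective (((Scheme.Modules.pullback i).map t).app (i ⁻¹ᵁ U.1)) := by
  have hV : IsAffineOpen (i ⁻¹ᵁ U.1) := U.2.preimage i
  letI : Algebra Γ(X, U.1) Γ(Y, i ⁻¹ᵁ U.1) := (i.appLE U.1 (i ⁻¹ᵁ U.1) le_rfl).hom.toAlgebra
  have halg : ∀ r : Γ(X, U.1), algebraMap Γ(X, U.1) Γ(Y, i ⁻¹ᵁ U.1) r = (i.app U.1).hom r := by
    intro r
    show (i.appLE U.1 (i ⁻¹ᵁ U.1) le_rfl).hom r = _
    rw [Scheme.Hom.appLE_eq_app]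
  have hsurj : Function.Surjective (algebraMap Γ(X, U.1) Γ(Y, i ⁻¹ᵁ U.1)) := by
    intro z
    obtain ⟨r, hr⟩ := Scheme.Hom.app_surjective i U.1 U.2 z
    exact ⟨r, (halg r).trans hr⟩
  have hker : i.ker.ideal U = RingHom.ker (Algebra.ofId Γ(X, U.1) Γ(Y, i ⁻¹ᵁ U.1)) := by
    ext r
    rw [Scheme.Hom.ker_apply, RingHom.mem_ker, RingHom.mem_ker]
    exact ⟨fun h => (halg r).trans h, fun h => (halg r).symm.trans h⟩
  -- the sequence and the ideal
  let a : Fin n → Γ(X, U.1) := fun k => (s.val.app (op U.1)).hom (b k)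
  have hsapp : ∀ x : Γ(E, U.1), (ClSub.idealModι i.ker).app U.1 (t.app U.1 x) =
      (s.val.app (op U.1)).hom x := by
    intro x
    rw [← comp_app', hts]
    rfl
  have hI : i.ker.ideal U = Ideal.span (Set.range a) := by
    apply le_antisymm
    · intro r hr
      obtain ⟨τ, hτ⟩ := (exists_idealModι_app_eq_iff i.ker U r).mpr hr
      obtain ⟨x, hx⟩ := epi_app_affine (inferInstance : E.IsQuasicoherent)
        (inferInstance : (ClSub.idealMod i.ker).IsQuasicoherent) t U.2 τ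
      rw [← hτ, ← hx, hsapp]
      rw [← b.sum_repr x, map_sum]
      refine Ideal.sum_mem _ (fun k _ => ?_)
      rw [map_smul]
      exact Ideal.mul_mem_left _ _ (Ideal.subset_span ⟨k, rfl⟩)
    · rw [Ideal.span_le]
      rintro _ ⟨k, rfl⟩
      exact (exists_idealModι_app_eq_iff i.ker U _).mp ⟨t.app U.1 (b k), hsapp (b k)⟩
  -- the two identifications
  obtain ⟨eq1⟩ := exists_pullback_sections_equiv i hV U.2 le_rfl E
  obtain ⟨eq2⟩ := exists_pullback_sections_equiv i hV U.2 le_rfl (ClSub.idealMod i.ker)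
  let b' : Module.Basis (Fin n) Γ(X, U.1) Γ(E, U.1) := b
  let e₁ : Γ((Scheme.Modules.pullback i).obj E, i ⁻¹ᵁ U.1) ≃ₗ[Γ(Y, i ⁻¹ᵁ U.1)]
      (Fin n → Γ(Y, i ⁻¹ᵁ U.1)) :=
    eq1 ≪≫ₗ (Algebra.TensorProduct.basis Γ(Y, i ⁻¹ᵁ U.1) b').equivFun
  let eq3 : Γ(Y, i ⁻¹ᵁ U.1) ⊗[Γ(X, U.1)] Γ(ClSub.idealMod i.ker, U.1) ≃ₗ[Γ(Y, i ⁻¹ᵁ U.1)]
      Γ(Y, i ⁻¹ᵁ U.1) ⊗[Γ(X, U.1)] (i.ker.ideal U) :=
    TensorProduct.AlgebraTensorModule.congr (LinearEquiv.refl _ _)
      (idealModSectionsEquiv i.ker U)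
  obtain ⟨eq4⟩ := nonempty_equiv_tensor_ideal hsurj a hb (i.ker.ideal U) hI hker
  let e₂ : Γ((Scheme.Modules.pullback i).obj (ClSub.idealMod i.ker), i ⁻¹ᵁ U.1)
      ≃ₗ[Γ(Y, i ⁻¹ᵁ U.1)] (Fin n → Γ(Y, i ⁻¹ᵁ U.1)) :=
    eq2 ≪≫ₗ eq3 ≪≫ₗ eq4.symm
  haveI h1 := qc_pullback i E
  haveI h2 := qc_pullback i (ClSub.idealMod i.ker)
  haveI : Epi ((Scheme.Modules.pullback i).map t) := inferInstance
  have hf : Function.Surjective
      (KoszMap.appLin ((Scheme.Modules.pullback i).map t) (i ⁻¹ᵁ U.1)) :=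
    epi_app_affine h1 h2 ((Scheme.Modules.pullback i).map t) hV
  exact injective_of_surjective_of_equivs
    (KoszMap.appLin ((Scheme.Modules.pullback i).map t) (i ⁻¹ᵁ U.1)) hf n e₁ e₂

theorem isIso_pullback_map (n : ℕ) (E : X.Modules)
    (hE : FlatMod.IsFinLocFreeOfRank n E) (s : E ⟶ Coh.structureModule X)
    (hs : ∀ x : X, ∃ U : X.affineOpens, x ∈ U.1 ∧
      ∃ b : Module.Basis (Fin n) Γ(X, U.1) (E.val.obj (op U.1)),
        @RingTheory.Sequence.IsWeaklyRegular Γ(X, U.1) Γ(X, U.1) _ _ _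
          (List.ofFn fun k => (s.val.app (op U.1)).hom (b k)))
    (i : Y ⟶ X) [IsClosedImmersion i] (t : E ⟶ ClSub.idealMod i.ker) [Epi t]
    (hts : t ≫ ClSub.idealModι i.ker = s) :
    IsIso ((Scheme.Modules.pullback i).map t) := by
  haveI : E.IsQuasicoherent := qc_of_isFinLocFree E (fun x => by
    obtain ⟨W, hx, e⟩ := hE x
    exact ⟨W, n, hx, e⟩)
  haveI h1 := qc_pullback i E
  haveI h2 := qc_pullback i (ClSub.idealMod i.ker)
  haveI : Epi ((Scheme.Modules.pullback i).map t) := inferInstance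
  haveI hK : (kernel ((Scheme.Modules.pullback i).map t)).IsQuasicoherent :=
    qc_kernel _ h1 h2
  have hz : IsZero (kernel ((Scheme.Modules.pullback i).map t)) := by
    apply isZero_of_affine_cover
    intro y
    obtain ⟨U, hxU, b, hb⟩ := hs (i y)
    refine ⟨i ⁻¹ᵁ U.1, U.2.preimage i, hxU, fun k => ?_⟩
    have hinj := injective_app_of_good n E s i t hts U b hb
    apply mono_app (kernel.ι ((Scheme.Modules.pullback i).map t)) (i ⁻¹ᵁ U.1)
    rw [map_zero]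
    apply hinj
    rw [map_zero, ← comp_app', kernel.condition]
    rfl
  haveI : Mono ((Scheme.Modules.pullback i).map t) := Preadditive.mono_of_isZero_kernel _ hz
  exact isIso_of_mono_of_epi _

end Groth.Agent.H8.RegSecPull
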