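import Mathlib
import Groth.Agent.Lib.Helper8.KoszTw.TwLocal

set_option autoImplicit false
open CategoryTheory AlgebraicGeometry Opposite TopologicalSpace exteriorPower
open Groth.Agent.LD.QC

namespace Groth.Agent.H8.KoszTwL

universe u
variable {X : Scheme.{u}}
variable {F L : X.Modules} {s : F ⟶ Coh.structureModule X}
  {t : CohB1.tensorMod F L ⟶ Coh.structureModule X}

theorem local_kernel_iff (hF : FlatMod.IsFinLocFree F)
    (lam : Coh.structureModule X ⟶ L) [Mono lam] (htri : KoszTw.TwistTriangle s lam t)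
    (C : KoszSh.Cx F s) (D : KoszSh.Cx (CohB1.tensorMod F L) t) (q : ℕ)
    (θ : KoszTw.CxDecData C D (q + 1)) (U : X.affineOpens) (e : Γ(L, U.1))
    (he : IsBasisOver L U.1 e) (a : Γ(D.K.X (q + 1), U.1)) :
    (θ.iso.hom ≫ KoszTw.tensorMap (C.K.d (q + 1) q) (𝟙 (CohB1.tensorPow L (q + 1)))).app U.1 a = 0 ↔
      (D.K.d (q + 1) q).app U.1 a = 0 := by
  haveI := qc_of_isFinLocFree F hF
  obtain ⟨c, hc1, hc2, hc3⟩ := exists_c (s := s) (t := t) lam htri U.1 e he
  have hcreg : c ∈ nonZeroDivisors Γ(X, U.1) := by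
    rw [mem_nonZeroDivisors_iff_right]
    intro r hr
    have h1 : lam.app U.1 r = lam.app U.1 (0 : Γ(X, U.1)) := by
      rw [hc3, hc3, hr, zero_mul]
    exact mono_app lam U.1 h1
  have hfp := (isFinLocFree_iff_sections F).mp hF U.1 U.2
  haveI := hfp.1
  haveI := hfp.2
  haveI : Module.Projective Γ(X, U.1) Γ(F, U.1) := Module.Flat.projective_of_finitePresentation
  have hφ : Function.Bijective (tmulR F L U.1 e) := tmulR_bijective F he
  haveI : Module.Projective Γ(X, U.1) Γ(CohB1.tensorMod F L, U.1) :=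
    Module.Projective.of_equiv (LinearEquiv.ofBijective (tmulR F L U.1 e) hφ)
  have hΦ1 := extPow_map_bijective (q + 1) (tmulR F L U.1 e) hφ
  have hΦ0 := extPow_map_bijective q (tmulR F L U.1 e) hφ
  obtain ⟨w, hw⟩ := hΦ1.2 (D.loc (q + 1) U a)
  have ha : a = (D.loc (q + 1) U).symm (exteriorPower.map (q + 1) (tmulR F L U.1 e) w) := by
    rw [hw, LinearEquiv.symm_apply_apply]
  have h1 : (θ.iso.hom ≫ KoszTw.tensorMap (C.K.d (q + 1) q)
      (𝟙 (CohB1.tensorPow L (q + 1)))).app U.1 a =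
      SecTwist.tmul (C.K.X q) (CohB1.tensorPow L (q + 1)) U.1
        ((C.loc q U).symm (dLin C q U w)) (secPow e (q + 1)) := by
    rw [comp_app', ha, decData_apply θ U e w, KoszTw.tensorMap_tmul, d_app_symm]
    rfl
  have h2 : (D.K.d (q + 1) q).app U.1 a =
      (D.loc q U).symm (dLin D q U (exteriorPower.map (q + 1) (tmulR F L U.1 e) w)) := by
    rw [ha, d_app_symm]
  rw [h1, h2]
  have hinj := (tmulR_bijective (C.K.X q) (he.secPow (q + 1))).1
  constructor
  · intro h
    have h3 : (C.loc q U).symm (dLin C q U w) = 0 := by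
      apply hinj
      rw [map_zero]
      exact h
    have h4 : dLin C q U w = 0 := by
      have := congrArg (C.loc q U) h3
      rwa [LinearEquiv.apply_symm_apply, map_zero] at this
    have h5 : c • dLin D q U (exteriorPower.map (q + 1) (tmulR F L U.1 e) w) = 0 := by
      rw [← map_dLin C D q U e c hc2 w, h4, map_zero]
    rw [extPow_eq_zero_of_smul q hcreg _ h5, map_zero]
  · intro h
    have h3 : dLin D q U (exteriorPower.map (q + 1) (tmulR F L U.1 e) w) = 0 := by
      have := congrArg (D.loc q U) h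
      rwa [LinearEquiv.apply_symm_apply, map_zero] at this
    have h4 : exteriorPower.map q (tmulR F L U.1 e) (dLin C q U w) = 0 := by
      rw [map_dLin C D q U e c hc2 w, h3, smul_zero]
    have h5 : dLin C q U w = 0 := hΦ0.1 (h4.trans (map_zero _).symm)
    rw [h5, map_zero]
    exact tmul_zero_left _ _ _ _

theorem kernel_eq (hF : FlatMod.IsFinLocFree F) (hL : PicF.IsInvertible L)
    (lam : Coh.structureModule X ⟶ L) [Mono lam] (htri : KoszTw.TwistTriangle s lam t)
    (C : KoszSh.Cx F s) (D : KoszSh.Cx (CohB1.tensorMod F L) t) (q : ℕ)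
    (θ : KoszTw.CxDecData C D (q + 1)) :
    Limits.kernelSubobject (θ.iso.hom ≫ KoszTw.tensorMap (C.K.d (q + 1) q)
      (𝟙 (CohB1.tensorPow L (q + 1)))) = Limits.kernelSubobject (D.K.d (q + 1) q) := by
  apply le_antisymm
  · apply kernelSubobject_le_of_local
    intro x W hx
    obtain ⟨U, e, hxU, hUW, he⟩ := exists_affine_basis hL x W hx
    exact ⟨U.1, hxU, hUW, fun a => (local_kernel_iff hF lam htri C D q θ U e he a).mp⟩
  · apply kernelSubobject_le_of_local
    intro x W hx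
    obtain ⟨U, e, hxU, hUW, he⟩ := exists_affine_basis hL x W hx
    exact ⟨U.1, hxU, hUW, fun a => (local_kernel_iff hF lam htri C D q θ U e he a).mpr⟩

theorem local_image_key (lam : Coh.structureModule X ⟶ L) (htri : KoszTw.TwistTriangle s lam t)
    (C : KoszSh.Cx F s) (D : KoszSh.Cx (CohB1.tensorMod F L) t) (q : ℕ)
    (θ : KoszTw.CxDecData C D q) (U : X.affineOpens) (e : Γ(L, U.1))
    (he : IsBasisOver L U.1 e) (w : ↥(⋀[Γ(X, U.1)]^(q + 1) Γ(F, U.1))) :
    ((SecTwist.unitorR (D.K.X (q + 1))).inv ≫ KoszTw.tensorMap (D.K.d (q + 1) q) lam ≫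
        KoszTw.tensorMap θ.iso.hom (𝟙 L)).app U.1
        ((D.loc (q + 1) U).symm (exteriorPower.map (q + 1) (tmulR F L U.1 e) w)) =
      (KoszTw.tensorMap (KoszTw.tensorMap (C.K.d (q + 1) q) (𝟙 (CohB1.tensorPow L q))) (𝟙 L)).app U.1
        (SecTwist.tmul _ L U.1 (SecTwist.tmul (C.K.X (q + 1)) (CohB1.tensorPow L q) U.1
          ((C.loc (q + 1) U).symm w) (secPow e q)) e) := by
  obtain ⟨c, hc1, hc2, hc3⟩ := exists_c (s := s) (t := t) lam htri U.1 e he
  have hφ : Function.Bijective (tmulR F L U.1 e) := tmulR_bijective F he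
  have hΦ0 := extPow_map_bijective q (tmulR F L U.1 e) hφ
  obtain ⟨v, hv⟩ := hΦ0.2 (dLin D q U (exteriorPower.map (q + 1) (tmulR F L U.1 e) w))
  have hcv : dLin C q U w = c • v := by
    apply hΦ0.1
    rw [map_dLin C D q U e c hc2 w, map_smul, hv]
  have hR : (KoszTw.tensorMap (KoszTw.tensorMap (C.K.d (q + 1) q) (𝟙 (CohB1.tensorPow L q)))
      (𝟙 L)).app U.1 (SecTwist.tmul _ L U.1 (SecTwist.tmul (C.K.X (q + 1)) (CohB1.tensorPow L q) U.1
          ((C.loc (q + 1) U).symm w) (secPow e q)) e) =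
      SecTwist.tmul _ L U.1 (SecTwist.tmul (C.K.X q) (CohB1.tensorPow L q) U.1
          ((C.loc q U).symm (dLin C q U w)) (secPow e q)) e := by
    rw [KoszTw.tensorMap_tmul, KoszTw.tensorMap_tmul, d_app_symm]
    rfl
  have hLft : ((SecTwist.unitorR (D.K.X (q + 1))).inv ≫ KoszTw.tensorMap (D.K.d (q + 1) q) lam ≫
        KoszTw.tensorMap θ.iso.hom (𝟙 L)).app U.1
        ((D.loc (q + 1) U).symm (exteriorPower.map (q + 1) (tmulR F L U.1 e) w)) =
      SecTwist.tmul _ L U.1 (SecTwist.tmul (C.K.X q) (CohB1.tensorPow L q) U.1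
          ((C.loc q U).symm v) (secPow e q)) (c • e) := by
    rw [comp_app', comp_app', unitorR_inv_app, KoszTw.tensorMap_tmul, d_app_symm,
      KoszTw.tensorMap_tmul, ← hv, decData_apply θ U e v, hc1]
    rfl
  rw [hR, hLft, hcv, map_smul, tmul_smul_left]
  exact (tmul_smul_right _ _ _ c _ e).trans (tmul_smul_left _ _ _ c _ e).symm

theorem image_eq (hL : PicF.IsInvertible L)
    (lam : Coh.structureModule X ⟶ L) (htri : KoszTw.TwistTriangle s lam t)
    (C : KoszSh.Cx F s) (D : KoszSh.Cx (CohB1.tensorMod F L) t) (q : ℕ)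
    (θ : KoszTw.CxDecData C D q) :
    Limits.imageSubobject (KoszTw.tensorMap (KoszTw.tensorMap (C.K.d (q + 1) q)
        (𝟙 (CohB1.tensorPow L q))) (𝟙 L)) =
      Limits.imageSubobject ((SecTwist.unitorR (D.K.X (q + 1))).inv ≫
        KoszTw.tensorMap (D.K.d (q + 1) q) lam ≫ KoszTw.tensorMap θ.iso.hom (𝟙 L)) := by
  apply le_antisymm
  · apply imageSubobject_le_of_local
    intro x W hx
    obtain ⟨U, e, hxU, hUW, he⟩ := exists_affine_basis hL x W hx
    refine ⟨U.1, hxU, hUW, fun a => ?_⟩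
    obtain ⟨z, rfl⟩ := (tmulR_bijective (CohB1.tensorMod (C.K.X (q + 1)) (CohB1.tensorPow L q)) he).2 a
    obtain ⟨y, rfl⟩ := (tmulR_bijective (C.K.X (q + 1)) (he.secPow q)).2 z
    refine ⟨(D.loc (q + 1) U).symm (exteriorPower.map (q + 1) (tmulR F L U.1 e)
      (C.loc (q + 1) U y)), ?_⟩
    rw [local_image_key lam htri C D q θ U e he, LinearEquiv.symm_apply_apply]
    rfl
  · apply imageSubobject_le_of_local
    intro x W hx
    obtain ⟨U, e, hxU, hUW, he⟩ := exists_affine_basis hL x W hx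
    refine ⟨U.1, hxU, hUW, fun b => ?_⟩
    have hφ : Function.Bijective (tmulR F L U.1 e) := tmulR_bijective F he
    obtain ⟨w, hw⟩ := (extPow_map_bijective (q + 1) (tmulR F L U.1 e) hφ).2 (D.loc (q + 1) U b)
    have hb : b = (D.loc (q + 1) U).symm (exteriorPower.map (q + 1) (tmulR F L U.1 e) w) := by
      rw [hw, LinearEquiv.symm_apply_apply]
    refine ⟨SecTwist.tmul _ L U.1 (SecTwist.tmul (C.K.X (q + 1)) (CohB1.tensorPow L q) U.1
          ((C.loc (q + 1) U).symm w) (secPow e q)) e, ?_⟩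
    rw [hb, local_image_key lam htri C D q θ U e he]

end Groth.Agent.H8.KoszTwL
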